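import Groth.Agent.GPLib.Basic
import Mathlib.RingTheory.Coprime.Lemmas

/-!
# Weights near one
-/

universe u

open CategoryTheory AlgebraicGeometry

namespace Groth.Agent.GPLib

variable {X : Scheme.{u}} {k : Type u} [Field k] [X.Over (Spec (CommRingCat.of k))]
  {I : X.IdealSheafData} (G E : X.Modules) (H : Submodule k (ParSh.fibD X I G))
  (F₁ : Submodule k (ParSh.fibD X I E))

theorem one_sub_mul_lt {d n r : ℕ} (hn : 2 ≤ n) (hd : 0 < d) (hr : r < n) {B : ℝ}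
    (hB : B ≤ (d : ℝ) * n * r) {α : ℝ} (hα1 : α < 1)
    (hα : 1 - 1 / ((d : ℝ) * (n : ℝ) * ((n : ℝ) - 1)) < α) : (1 - α) * B < 1 := by
  have hn1 : (1 : ℝ) ≤ (n : ℝ) - 1 := by
    have : (2 : ℝ) ≤ n := by exact_mod_cast hn
    linarith
  have hr1 : (r : ℝ) ≤ (n : ℝ) - 1 := by
    have : (r : ℝ) + 1 ≤ n := by exact_mod_cast hr
    linarith
  have hp : (0 : ℝ) < (d : ℝ) * n * ((n : ℝ) - 1) := by
    have : (0 : ℝ) < d := by exact_mod_cast hd
    have : (0 : ℝ) < n := by linarith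
    positivity
  have h1 : B ≤ (d : ℝ) * n * ((n : ℝ) - 1) :=
    hB.trans (mul_le_mul_of_nonneg_left hr1 (by positivity))
  have h2 : (1 - α) * B ≤ (1 - α) * ((d : ℝ) * n * ((n : ℝ) - 1)) :=
    mul_le_mul_of_nonneg_left h1 (by linarith)
  have h3 : (1 - α) * ((d : ℝ) * n * ((n : ℝ) - 1)) < 1 := by
    rw [← lt_div_iff₀ hp]
    linarith
  linarith

/-- A slope inequality at weight near one gives it at weight one. -/
theorem weight_one_le (n r d : ℕ) (α : ℝ) (hn : 2 ≤ n) (hd : 0 < d) (hr : r < n)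
    (hH : Module.finrank k H ≤ r * d) (hα1 : α < 1)
    (hα : 1 - 1 / ((d : ℝ) * (n : ℝ) * ((n : ℝ) - 1)) < α)
    (h : ParSh.gpDeg k X α G H r * (n : ℝ) ≤ ParSh.gpDeg k X α E F₁ n * (r : ℝ)) :
    ParSh.gpDeg k X 1 G H r * (n : ℝ) ≤ ParSh.gpDeg k X 1 E F₁ n * (r : ℝ) := by
  simp only [ParSh.gpDeg, ParSh.gpWt, one_mul] at h ⊢
  let A : ℤ := Curv2.deg k X G r * n - Curv2.deg k X E n * r
  let B : ℤ := (Module.finrank k H : ℤ) * n - (Module.finrank k F₁ : ℤ) * r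
  have hBb : (B : ℝ) ≤ (d : ℝ) * n * r := by
    have h1 : (Module.finrank k H : ℝ) ≤ r * d := by exact_mod_cast hH
    have h2 := mul_le_mul_of_nonneg_right h1 (Nat.cast_nonneg (α := ℝ) n)
    have h3 : (0 : ℝ) ≤ (Module.finrank k F₁ : ℝ) * r := by positivity
    push_cast [B]
    linarith
  have h1 := one_sub_mul_lt hn hd hr hBb hα1 hα
  have h2 : (A : ℝ) + (B : ℝ) < 1 := by push_cast [A, B] at h1 ⊢; linarith
  have h3 : A + B ≤ 0 := Int.lt_add_one_iff.1 (by exact_mod_cast (by linarith : (A : ℝ) + B < 0 + 1))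
  have h4 : (A : ℝ) + (B : ℝ) ≤ 0 := by exact_mod_cast h3
  push_cast [A, B] at h4
  linarith

/-- A strict slope inequality at weight one gives it at weight near one. -/
theorem weight_lt_of_one (n r d : ℕ) (α : ℝ) (hn : 2 ≤ n) (hd : 0 < d) (hr : r < n)
    (hF : Module.finrank k F₁ ≤ n * d) (hα1 : α < 1)
    (hα : 1 - 1 / ((d : ℝ) * (n : ℝ) * ((n : ℝ) - 1)) < α)
    (h : ParSh.gpDeg k X 1 G H r * (n : ℝ) < ParSh.gpDeg k X 1 E F₁ n * (r : ℝ)) :
    ParSh.gpDeg k X α G H r * (n : ℝ) < ParSh.gpDeg k X α E F₁ n * (r : ℝ) := by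
  simp only [ParSh.gpDeg, ParSh.gpWt, one_mul] at h ⊢
  let A : ℤ := Curv2.deg k X G r * n - Curv2.deg k X E n * r
  let B : ℤ := (Module.finrank k H : ℤ) * n - (Module.finrank k F₁ : ℤ) * r
  have hBb : -(B : ℝ) ≤ (d : ℝ) * n * r := by
    have h1 : (Module.finrank k F₁ : ℝ) ≤ n * d := by exact_mod_cast hF
    have h2 := mul_le_mul_of_nonneg_right h1 (Nat.cast_nonneg (α := ℝ) r)
    have h3 : (0 : ℝ) ≤ (Module.finrank k H : ℝ) * n := by positivity
    push_cast [B]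
    linarith
  have h1 := one_sub_mul_lt hn hd hr hBb hα1 hα
  have h2 : (A : ℝ) + (B : ℝ) < 0 := by push_cast [A, B]; linarith
  have h3 : A + B < 0 := by exact_mod_cast h2
  have h4 : (A : ℝ) + (B : ℝ) ≤ -1 := by exact_mod_cast (by omega : A + B ≤ -1)
  push_cast [A, B] at h1 h4
  linarith

/-- No proper subobject has the slope of the whole when rank and degree are coprime. -/
theorem ne_of_coprime (n r a : ℕ) (hr0 : 0 < r) (hr : r < n)
    (ha : Module.finrank k F₁ = a * n) (hcop : IsCoprime (n : ℤ) (Curv2.deg k X E n)) :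
    ParSh.gpDeg k X 1 G H r * (n : ℝ) ≠ ParSh.gpDeg k X 1 E F₁ n * (r : ℝ) := by
  intro h
  simp only [ParSh.gpDeg, ParSh.gpWt, one_mul, ha, Nat.cast_mul] at h
  have h1 : (Curv2.deg k X G r + Module.finrank k H - (a : ℤ) * r) * n = Curv2.deg k X E n * r := by
    have h2 : ((Curv2.deg k X G r : ℝ) + Module.finrank k H - (a : ℝ) * r) * n =
        (Curv2.deg k X E n : ℝ) * r := by linarith
    exact_mod_cast h2
  have h3 : (n : ℤ) ∣ (r : ℤ) :=
    hcop.dvd_of_dvd_mul_left ⟨_, h1.symm.trans (mul_comm _ _)⟩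
  exact absurd (Nat.le_of_dvd hr0 (Int.natCast_dvd_natCast.1 h3)) (by omega)

end Groth.Agent.GPLib
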