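import Groth.Prelude.Def_ParBun2
import Groth.Prelude.Def_FGA
import Groth.Agent.ParShLib.Basic
import Groth.Agent.EulerChar.Restrict
import Groth.Agent.EulerChar.Curve
import Groth.Agent.EulerChar.Torsion
import Groth.Agent.VBLib.Slope
import Groth.Agent.KFlat.ProjFormula

/-!
# The fibres of bundles at a divisor of a curve

`H⁰(E ⊗ O_D)`: its dimension, exactness properties, and the bound on the kernel of a map of
generically isomorphic bundles.
-/

universe u

open CategoryTheory CategoryTheory.Limits AlgebraicGeometry TopologicalSpace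
open Groth.Agent.PullStalk.Sky Groth.Agent.PullStalk.Exact

set_option linter.style.haveILetI false

namespace Groth.Agent.GPLib

attribute [local irreducible] Curv2.euler

variable {X : Scheme.{u}} (I : X.IdealSheafData)

/-- `E ⟶ E ⊗ O`. -/
noncomputable def oneRes (E : X.Modules) : E ⟶ CohB1.tensorMod E (Coh.structureModule X) :=
  (KFlat.ProjFormula.unitRight X).inv.app E

instance isIso_oneRes (E : X.Modules) : IsIso (oneRes E) :=
  ((KFlat.ProjFormula.unitRight X).symm.app E).isIso_hom

/-- `E ⟶ E ⊗ O_D`. -/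
noncomputable def toRes (E : X.Modules) : E ⟶ ParSh.resD I E :=
  oneRes E ≫ KoszTw.tensorMap (𝟙 E) (ClSub.toSubscheme I)

theorem resDMap_comp {A B C : X.Modules} (f : A ⟶ B) (g : B ⟶ C) :
    ParSh.resDMap I (f ≫ g) = ParSh.resDMap I f ≫ ParSh.resDMap I g := by
  show KoszTw.tensorMap _ _ = KoszTw.tensorMap _ _ ≫ KoszTw.tensorMap _ _
  rw [← KoszTw.tensorMap_comp, Category.comp_id]

theorem resDMap_id (A : X.Modules) : ParSh.resDMap I (𝟙 A) = 𝟙 _ :=
  KoszTw.tensorMap_id _ _

theorem oneRes_natural {A B : X.Modules} (f : A ⟶ B) :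
    f ≫ oneRes B = oneRes A ≫ KoszTw.tensorMap f (𝟙 (Coh.structureModule X)) :=
  ((KFlat.ProjFormula.unitRight X).inv.naturality f).trans
    (congrArg (oneRes A ≫ ·) (KoszTw.tensorBi_map_app f (Coh.structureModule X)))

theorem toRes_natural {A B : X.Modules} (f : A ⟶ B) :
    f ≫ toRes I B = toRes I A ≫ ParSh.resDMap I f := by
  simp only [toRes]
  rw [← Category.assoc, oneRes_natural, Category.assoc, Category.assoc, ← KoszTw.tensorMap_comp,
    ← KoszTw.tensorMap_comp, Category.comp_id, Category.comp_id, Category.id_comp, Category.id_comp]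

theorem epi_toRes {n : ℕ} {E : X.Modules} (hE : FlatMod.IsFinLocFreeOfRank n E) : Epi (toRes I E) := by
  have h : Epi (((DCoh.tensorBi (X := X)).obj E).map (ClSub.toSubscheme I)) :=
    (CohDev.tens_shortExact hE (EulerChar.shortExact_ideal I)).epi_g
  have he : KoszTw.tensorMap (𝟙 E) (ClSub.toSubscheme I) =
      ((DCoh.tensorBi (X := X)).obj E).map (ClSub.toSubscheme I) := by
    unfold KoszTw.tensorMap
    rw [CategoryTheory.Functor.map_id, NatTrans.id_app]
    exact Category.id_comp _
  haveI : Epi (KoszTw.tensorMap (𝟙 E) (ClSub.toSubscheme I)) := by rw [he]; exact h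
  exact epi_comp _ _

theorem epi_resDMap {n : ℕ} {A B : X.Modules} (f : A ⟶ B) [Epi f]
    (hB : FlatMod.IsFinLocFreeOfRank n B) : Epi (ParSh.resDMap I f) := by
  haveI := epi_toRes I hB
  haveI : Epi (f ≫ toRes I B) := epi_comp _ _
  haveI : Epi (toRes I A ≫ ParSh.resDMap I f) := by rw [← toRes_natural]; infer_instance
  exact epi_of_epi (toRes I A) _

/-- Right exactness of `- ⊗ O_D`. -/
theorem exact_resDMap {S : ShortComplex X.Modules} (hS : S.ShortExact) :
    ∃ w : ParSh.resDMap I S.f ≫ ParSh.resDMap I S.g = 0,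
      (ShortComplex.mk (ParSh.resDMap I S.f) (ParSh.resDMap I S.g) w).Exact := by
  let F := (DCoh.tensorBi (X := X)).flip.obj (ClSub.quotMod I)
  haveI : PreservesColimitsOfSize.{0, 0} F :=
    KFlat.TensorLocFree.preservesColimits_tensorBi_flip_obj (ClSub.quotMod I)
  haveI : PreservesFiniteColimits F := PreservesColimitsOfSize.preservesFiniteColimits F
  haveI : F.Additive := Functor.additive_of_preserves_binary_products F
  have hf : F.map S.f = ParSh.resDMap I S.f := KoszTw.tensorBi_map_app _ _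
  have hg : F.map S.g = ParSh.resDMap I S.g := KoszTw.tensorBi_map_app _ _
  have wF : F.map S.f ≫ F.map S.g = 0 :=
    (F.map_comp S.f S.g).symm.trans ((congrArg F.map S.zero).trans (F.map_zero _ _))
  have w : ParSh.resDMap I S.f ≫ ParSh.resDMap I S.g = 0 := by
    rw [← hf, ← hg]; exact wF
  refine ⟨w, ?_⟩
  haveI := hS.epi_g
  have he : (ShortComplex.mk (F.map S.f) (F.map S.g) wF).Exact :=
    ShortComplex.exact_of_g_is_cokernel (S.map F)
      (CokernelCofork.mapIsColimit _ hS.gIsCokernel F)
  have key : ∀ (u : F.obj S.X₁ ⟶ F.obj S.X₂) (v : F.obj S.X₂ ⟶ F.obj S.X₃) (h : u ≫ v = 0),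
      F.map S.f = u → F.map S.g = v → (ShortComplex.mk u v h).Exact := by
    rintro u v h rfl rfl
    exact he
  exact key _ _ w hf hg

theorem support_resD (E : X.Modules) : CohB1.support (ParSh.resD I E) ⊆ (I.support : Set X) :=
  (CohDev.support_subset_of_mono (ProjTwist.tensComm E (ClSub.quotMod I)).hom).trans
    ((HilbPolyX.support_tensorMod_subset _ _).trans (EulerChar.support_quotMod_subset I))

variable (k : Type u) [Field k] [X.Over (Spec (CommRingCat.of k))]
  [IsProper (X ↘ Spec (CommRingCat.of k))] (hdim : topologicalKrullDim X = 1)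
  (hD : FGA.IsEffCartier I)

include hdim hD k in
theorem dim_support_le_of_subset {G : X.Modules} (h : CohB1.support G ⊆ (I.support : Set X)) :
    topologicalKrullDim ↥(CohB1.support G) ≤ 0 :=
  (TopDimLib.topDim_le_of_subset h).trans (EulerChar.dim_support_divisor I hdim.le hD)

theorem resD_eq (E : X.Modules) : ParSh.resD I E = CohDev.tens E (ClSub.quotMod I) := rfl

include k in
theorem isCoh_resD {n : ℕ} {E : X.Modules} (hE : FlatMod.IsFinLocFreeOfRank n E) :
    Coh.IsCoh (ParSh.resD I E) := by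
  rw [resD_eq]
  have hQ : Coh.IsCoh (ClSub.quotMod I) := EulerChar.isCoh_quotMod k I
  exact @EulerChar.isCoh_tens _ k _ _ _ n E hE _ hQ

include hdim hD in
theorem euler_resD {n : ℕ} {E : X.Modules} (hE : FlatMod.IsFinLocFreeOfRank n E) :
    Curv2.euler k X (ParSh.resD I E) = n * Curv2.euler k X (ClSub.quotMod I) := by
  rw [resD_eq]
  have hQ : Coh.IsCoh (ClSub.quotMod I) := EulerChar.isCoh_quotMod k I
  exact @EulerChar.euler_tens_of_support _ k _ _ _ n E hE _ hQ
    (dim_support_le_of_subset I k hdim hD (EulerChar.support_quotMod_subset I))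

include hdim hD in
/-- `dim H⁰(E ⊗ O_D) = n · deg D`. -/
theorem finrank_fibD {n : ℕ} {E : X.Modules} (hE : FlatMod.IsFinLocFreeOfRank n E) :
    (Module.finrank k (ParSh.fibD X I E) : ℤ) = n * Curv2.euler k X (ClSub.quotMod I) := by
  rw [← euler_resD I k hdim hD hE, EulerChar.euler_eq_finrank_of_support k (isCoh_resD I k hE)
    (dim_support_le_of_subset I k hdim hD (support_resD I E))]

include k in
theorem finite_fibD {n : ℕ} {E : X.Modules} (hE : FlatMod.IsFinLocFreeOfRank n E) :
    Module.Finite k (ParSh.fibD X I E) :=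
  EulerChar.finite_HH (k := k) _ (isCoh_resD I k hE) 0

theorem fibDMap_comp {A B C : X.Modules} (f : A ⟶ B) (g : B ⟶ C) (x : ParSh.fibD X I A) :
    ParSh.fibDMap k X I (f ≫ g) x = ParSh.fibDMap k X I g (ParSh.fibDMap k X I f x) := by
  show Sheaf.H.map ((SheafOfModules.toSheaf X.ringCatSheaf).map (ParSh.resDMap I (f ≫ g))) 0 x = _
  rw [resDMap_comp]
  exact (congrArg (fun t => Sheaf.H.map t 0 x) ((SheafOfModules.toSheaf X.ringCatSheaf).map_comp _ _)).trans
    (Sheaf.H.map_comp_apply _ _ _)

theorem bijective_fibDMap {A B : X.Modules} (f : A ⟶ B) [IsIso f] :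
    Function.Bijective (ParSh.fibDMap k X I f) := by
  have hid : ∀ (C : X.Modules) (x : ParSh.fibD X I C), ParSh.fibDMap k X I (𝟙 C) x = x := fun C x => by
    show Sheaf.H.map ((SheafOfModules.toSheaf X.ringCatSheaf).map (ParSh.resDMap I (𝟙 C))) 0 x = _
    rw [resDMap_id]
    exact (congrArg (fun t => Sheaf.H.map t 0 x) ((SheafOfModules.toSheaf X.ringCatSheaf).map_id _)).trans
      (Sheaf.H.map_id_apply _)
  refine Function.bijective_iff_has_inverse.2 ⟨ParSh.fibDMap k X I (inv f), fun x => ?_, fun x => ?_⟩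
  · rw [← fibDMap_comp, IsIso.hom_inv_id, hid]
  · rw [← fibDMap_comp, IsIso.inv_hom_id, hid]

variable [IsIntegral X] [Smooth (X ↘ Spec (CommRingCat.of k))]

include k hdim in
theorem dim_support_of_rk_zero {C : X.Modules} (hC : Coh.IsCoh C) (h : VBLib.rk C = 0) :
    topologicalKrullDim ↥(CohB1.support C) ≤ 0 := by
  refine EulerChar.dim_support_le_zero k hdim hC fun hξ => hξ ?_
  letI : Field (X.presheaf.stalk (genericPoint X)) := inferInstanceAs (Field X.functionField)
  haveI := VBLib.finite_stalk hC (genericPoint X)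
  exact Module.finrank_zero_iff.mp h

include hdim hD in
/-- The kernel of `H⁰(E ⊗ O_D) → H⁰(F ⊗ O_D)` for a generic isomorphism is at most the length of its
cokernel. -/
theorem finrank_ker_fibDMap_le {n : ℕ} {E F : X.Modules} (hE : FlatMod.IsFinLocFreeOfRank n E)
    (hF : FlatMod.IsFinLocFreeOfRank n F) (f : E ⟶ F) [Mono f] :
    (Module.finrank k (LinearMap.ker (ParSh.fibDMap k X I f)) : ℤ) ≤
      Curv2.deg k X F n - Curv2.deg k X E n := by
  haveI := EulerChar.isNoetherian k (X := X)
  have hX := VBLib.goodCurve_of_smooth (k := k) (X := X) hdim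
  have hEc := VBLib.isCoh_of_ofRank hE
  have hFc := VBLib.isCoh_of_ofRank hF
  have hA := isCoh_resD I k hE
  have hB := isCoh_resD I k hF
  let φ := ParSh.resDMap I f
  let SK := ShortComplex.mk (kernel.ι φ) (Abelian.factorThruImage φ)
    ((cancel_mono (Abelian.image.ι φ)).mp (by simp))
  have hSK : SK.ShortExact := by
    refine { exact := ShortComplex.exact_of_f_is_kernel _ ?_ }
    refine KernelFork.IsLimit.ofι' _ _ fun {A} a ha => ⟨kernel.lift φ a ?_, kernel.lift_ι _ _ _⟩
    rw [← Abelian.image.fac φ, ← Category.assoc]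
    exact (congrArg (· ≫ Abelian.image.ι φ) ha).trans zero_comp
  let SI := ShortComplex.mk (Abelian.image.ι φ) (cokernel.π φ) (kernel.condition _)
  have hSI : SI.ShortExact :=
    { exact := ShortComplex.exact_of_f_is_kernel _ (kernelIsKernel (cokernel.π φ)) }
  have hKc : Coh.IsCoh (kernel φ) := VBLib.isCoh_kernel φ hA hB
  have hVc : Coh.IsCoh (Abelian.image φ) := VBLib.isCoh_image φ hA hB
  have hQc : Coh.IsCoh (cokernel φ) := VBLib.isCoh_cokernel φ hA hB
  have hKs := dim_support_le_of_subset I k hdim hD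
    ((CohDev.support_subset_of_mono (kernel.ι φ)).trans (support_resD I E))
  have e1 : Curv2.euler k X (ParSh.resD I E) =
      Curv2.euler k X (kernel φ) + Curv2.euler k X (Abelian.image φ) :=
    hX.euler_add hSK hKc hA hVc
  have e2 : Curv2.euler k X (ParSh.resD I F) =
      Curv2.euler k X (Abelian.image φ) + Curv2.euler k X (cokernel φ) :=
    hX.euler_add hSI hVc hB hQc
  rw [euler_resD I k hdim hD hE] at e1
  rw [euler_resD I k hdim hD hF] at e2
  -- the kernel on global sections
  have h1 : (Module.finrank k (LinearMap.ker (ParSh.fibDMap k X I f)) : ℤ) ≤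
      Curv2.euler k X (kernel φ) := by
    rw [EulerChar.euler_eq_finrank_of_support k hKc hKs, Int.ofNat_le]
    haveI := finite_fibD I k hE
    haveI := EulerChar.finite_HH (k := k) _ hKc 0
    have hle : LinearMap.ker (ParSh.fibDMap k X I f) ≤
        LinearMap.range (CurveCoh.mapL k (kernel.ι φ) 0) := by
      intro x hx
      rw [LinearMap.mem_ker] at hx
      refine (CurveCoh.exact_mapL k hSK 0 x).1 (CurveCoh.injective_mapL_zero k hSI ?_)
      rw [map_zero]
      refine Eq.trans ?_ hx
      show Sheaf.H.map ((CurveCoh.toAbF X).map (Abelian.image.ι φ)) 0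
          (Sheaf.H.map ((CurveCoh.toAbF X).map (Abelian.factorThruImage φ)) 0 x) =
        Sheaf.H.map ((CurveCoh.toAbF X).map φ) 0 x
      rw [← Sheaf.H.map_comp_apply, ← Functor.map_comp, Abelian.image.fac]
    exact (Submodule.finrank_mono hle).trans (LinearMap.finrank_range_le _)
  -- the cokernel
  let g : cokernel f ⟶ cokernel φ := cokernel.desc f (toRes I F ≫ cokernel.π φ) (by
    rw [← Category.assoc, toRes_natural, Category.assoc, cokernel.condition, comp_zero])
  haveI := epi_toRes I hF
  haveI : Epi g := by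
    haveI : Epi (cokernel.π f ≫ g) := by
      rw [cokernel.π_desc]; exact epi_comp _ _
    exact epi_of_epi (cokernel.π f) g
  have hCc : Coh.IsCoh (cokernel f) := VBLib.isCoh_cokernel f hEc hFc
  have hrC : VBLib.rk (cokernel f) = 0 := by
    have := (hX.dg_mono_cokernel f hEc hFc).2
    rw [VBLib.rk_eq hE, VBLib.rk_eq hF] at this
    omega
  let SG := ShortComplex.mk (kernel.ι g) g (kernel.condition g)
  have hSG : SG.ShortExact := { exact := ShortComplex.exact_of_f_is_kernel _ (kernelIsKernel g) }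
  have hGc : Coh.IsCoh (kernel g) := VBLib.isCoh_kernel g hCc hQc
  have e3 : Curv2.euler k X (cokernel f) = Curv2.euler k X (kernel g) + Curv2.euler k X (cokernel φ) :=
    hX.euler_add hSG hGc hCc hQc
  have e4 : 0 ≤ Curv2.euler k X (kernel g) :=
    EulerChar.euler_nonneg_of_support k hGc
      ((TopDimLib.topDim_le_of_subset (CohDev.support_subset_of_mono (kernel.ι g))).trans
        (dim_support_of_rk_zero k hdim hCc hrC))
  let SC := ShortComplex.mk f (cokernel.π f) (cokernel.condition f)
  have hSC : SC.ShortExact := { exact := SC.exact_of_g_is_cokernel (cokernelIsCokernel f) }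
  have e5 : Curv2.euler k X F = Curv2.euler k X E + Curv2.euler k X (cokernel f) :=
    hX.euler_add hSC hEc hFc hCc
  simp only [Curv2.deg]
  omega

/-- Exactness on global sections, when the first term has finite support. -/
theorem ker_le_range_of_exact {A B C : X.Modules} (φ : A ⟶ B) (ψ : B ⟶ C) (w : φ ≫ ψ = 0)
    (hex : (ShortComplex.mk φ ψ w).Exact) [Epi ψ] (hA : Coh.IsCoh A) (hB : Coh.IsCoh B)
    (hC : Coh.IsCoh C) (hs : topologicalKrullDim ↥(CohB1.support A) ≤ 0)
    (x : Coh.HH X B 0) (hx : CurveCoh.mapL k ψ 0 x = 0) :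
    ∃ z : Coh.HH X A 0, CurveCoh.mapL k φ 0 z = x := by
  haveI := EulerChar.isNoetherian k (X := X)
  let SP := ShortComplex.mk (kernel.ι ψ) ψ (kernel.condition ψ)
  have hSP : SP.ShortExact := { exact := ShortComplex.exact_of_f_is_kernel _ (kernelIsKernel ψ) }
  haveI : Epi (kernel.lift ψ φ w) := hex.epi_kernelLift
  let ST := ShortComplex.mk (kernel.ι (kernel.lift ψ φ w)) (kernel.lift ψ φ w) (kernel.condition _)
  have hST : ST.ShortExact := { exact := ShortComplex.exact_of_f_is_kernel _ (kernelIsKernel _) }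
  have hPc : Coh.IsCoh (kernel ψ) := VBLib.isCoh_kernel ψ hB hC
  have hTc : Coh.IsCoh (kernel (kernel.lift ψ φ w)) := VBLib.isCoh_kernel _ hA hPc
  haveI := EulerChar.subsingleton_HH_of_support k hTc ((TopDimLib.topDim_le_of_subset
    (CohDev.support_subset_of_mono (kernel.ι (kernel.lift ψ φ w)))).trans hs) 0
  obtain ⟨y, hy⟩ := (CurveCoh.exact_mapL k hSP 0 x).1 hx
  obtain ⟨z, hz⟩ := (CurveCoh.exact_mapL_deltaL k hST 0 1 rfl y).1 (Subsingleton.elim _ _)
  refine ⟨z, ?_⟩
  rw [← hy, ← hz]
  show Sheaf.H.map ((CurveCoh.toAbF X).map φ) 0 z =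
    Sheaf.H.map ((CurveCoh.toAbF X).map (kernel.ι ψ)) 0
      (Sheaf.H.map ((CurveCoh.toAbF X).map (kernel.lift ψ φ w)) 0 z)
  rw [← Sheaf.H.map_comp_apply, ← Functor.map_comp, kernel.lift_ι]

include hdim hD in
/-- Exactness in the middle on the fibres at `D`, for a short exact sequence of bundles. -/
theorem ker_fibDMap_le_range {a b c : ℕ} {S : ShortComplex X.Modules} (hS : S.ShortExact)
    (h₁ : FlatMod.IsFinLocFreeOfRank a S.X₁) (h₂ : FlatMod.IsFinLocFreeOfRank b S.X₂)
    (h₃ : FlatMod.IsFinLocFreeOfRank c S.X₃) :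
    LinearMap.ker (ParSh.fibDMap k X I S.g) ≤ LinearMap.range (ParSh.fibDMap k X I S.f) := by
  obtain ⟨w, hex⟩ := exact_resDMap I hS
  haveI := hS.epi_g
  haveI := epi_resDMap I S.g h₃
  intro x hx
  obtain ⟨z, hz⟩ := ker_le_range_of_exact k (ParSh.resDMap I S.f) (ParSh.resDMap I S.g) w hex
    (isCoh_resD I k h₁) (isCoh_resD I k h₂) (isCoh_resD I k h₃)
    (dim_support_le_of_subset I k hdim hD (support_resD I S.X₁)) x hx
  exact ⟨z, hz⟩

end Groth.Agent.GPLib
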