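import Groth.Agent.GPLib.Basic

/-!
# Homomorphisms of generalised parabolic bundles on a curve
-/

universe u

open CategoryTheory CategoryTheory.Limits AlgebraicGeometry TopologicalSpace
open Groth.Agent.PullStalk.Sky Groth.Agent.PullStalk.Exact

set_option linter.style.haveILetI false

namespace Groth.Agent.GPLib

attribute [local irreducible] Curv2.euler

section Linear

variable {k V W : Type u} [Field k] [AddCommGroup V] [Module k V] [AddCommGroup W] [Module k W]

/-- The dimension of a subspace is that of its image plus that of its part in the kernel. -/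
theorem finrank_map_add_inf_ker (g : V →ₗ[k] W) (A : Submodule k V) [FiniteDimensional k V] :
    Module.finrank k (A.map g) + Module.finrank k ↥(A ⊓ LinearMap.ker g) = Module.finrank k A := by
  have h := (g.domRestrict A).finrank_range_add_finrank_ker
  rw [LinearMap.range_domRestrict] at h
  have hk : Module.finrank k (LinearMap.ker (g.domRestrict A)) =
      Module.finrank k ↥(A ⊓ LinearMap.ker g) := by
    rw [LinearMap.ker_domRestrict,
      show (LinearMap.ker g).comap A.subtype = (A ⊓ LinearMap.ker g).comap A.subtype by simp]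
    exact (Submodule.comapSubtypeEquivOfLe inf_le_left).finrank_eq
  omega

end Linear

variable {X : Scheme.{u}} (I : X.IdealSheafData) (k : Type u) [Field k]
  [X.Over (Spec (CommRingCat.of k))] [IsProper (X ↘ Spec (CommRingCat.of k))]
  (hdim : topologicalKrullDim X = 1) (hD : FGA.IsEffCartier I)
  [IsIntegral X] [Smooth (X ↘ Spec (CommRingCat.of k))] {α : ℝ}

omit [IsIntegral X] [Smooth (X ↘ Spec (CommRingCat.of k))] in
theorem deg_eq_of_iso {E F : X.Modules} (f : E ⟶ F) [IsIso f] (n : ℕ) :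
    Curv2.deg k X E n = Curv2.deg k X F n := by
  simp only [Curv2.deg, EulerChar.euler_iso k (asIso f)]

include hdim hD in
/-- A generic isomorphism respecting the structures increases the parabolic degree by at least
`(1 - α)` times its colength. -/
theorem gpDeg_add_le (hα0 : 0 ≤ α) {n : ℕ} {E F : X.Modules} (hE : FlatMod.IsFinLocFreeOfRank n E)
    (hF : FlatMod.IsFinLocFreeOfRank n F) (F₁ : Submodule k (ParSh.fibD X I E))
    (F₁' : Submodule k (ParSh.fibD X I F)) (f : E ⟶ F) [Mono f]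
    (hf : ParSh.IsGPHom k X I F₁ F₁' f) :
    ParSh.gpDeg k X α E F₁ n + (1 - α) * ((Curv2.deg k X F n : ℝ) - Curv2.deg k X E n) ≤
      ParSh.gpDeg k X α F F₁' n := by
  haveI := finite_fibD I k hE
  haveI := finite_fibD I k hF
  have h1 := finrank_map_add_inf_ker (ParSh.fibDMap k X I f) F₁
  have h2 : Module.finrank k ↥(F₁ ⊓ LinearMap.ker (ParSh.fibDMap k X I f)) ≤
      Module.finrank k (LinearMap.ker (ParSh.fibDMap k X I f)) := Submodule.finrank_mono inf_le_right
  have h3 : Module.finrank k (F₁.map (ParSh.fibDMap k X I f)) ≤ Module.finrank k F₁' :=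
    Submodule.finrank_mono hf
  have h4 := finrank_ker_fibDMap_le I k hdim hD hE hF f
  have h5 : (Module.finrank k F₁ : ℤ) ≤
      (Module.finrank k F₁' : ℤ) + (Curv2.deg k X F n - Curv2.deg k X E n) := by omega
  have h6 : (Module.finrank k F₁ : ℝ) ≤
      (Module.finrank k F₁' : ℝ) + ((Curv2.deg k X F n : ℝ) - Curv2.deg k X E n) := by exact_mod_cast h5
  have h7 := mul_le_mul_of_nonneg_left h6 hα0
  simp only [ParSh.gpDeg, ParSh.gpWt]
  linarith

include hdim in
omit hD in
theorem deg_le_of_mono {n : ℕ} {E F : X.Modules} (hE : FlatMod.IsFinLocFreeOfRank n E)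
    (hF : FlatMod.IsFinLocFreeOfRank n F) (f : E ⟶ F) [Mono f] :
    Curv2.deg k X E n ≤ Curv2.deg k X F n ∧ (Curv2.deg k X E n = Curv2.deg k X F n → IsIso f) := by
  have h := (VBLib.goodCurve_of_smooth (k := k) (X := X) hdim).dg_le_of_mono f (VBLib.isCoh_of_ofRank hE)
    (VBLib.isCoh_of_ofRank hF) ((VBLib.rk_eq hE).trans (VBLib.rk_eq hF).symm)
  rwa [← VBLib.dg_eq hE, ← VBLib.dg_eq hF] at h

include hdim hD in
theorem gpDeg_le (hα0 : 0 ≤ α) (hα1 : α ≤ 1) {n : ℕ} {E F : X.Modules}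
    (hE : FlatMod.IsFinLocFreeOfRank n E) (hF : FlatMod.IsFinLocFreeOfRank n F)
    (F₁ : Submodule k (ParSh.fibD X I E)) (F₁' : Submodule k (ParSh.fibD X I F)) (f : E ⟶ F) [Mono f]
    (hf : ParSh.IsGPHom k X I F₁ F₁' f) :
    ParSh.gpDeg k X α E F₁ n ≤ ParSh.gpDeg k X α F F₁' n := by
  have h1 := gpDeg_add_le I k hdim hD hα0 hE hF F₁ F₁' f hf
  have h2 : (Curv2.deg k X E n : ℝ) ≤ Curv2.deg k X F n := by
    exact_mod_cast (deg_le_of_mono k hdim hE hF f).1
  have h3 : 0 ≤ (1 - α) * ((Curv2.deg k X F n : ℝ) - Curv2.deg k X E n) :=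
    mul_nonneg (by linarith) (by linarith)
  linarith

include hdim hD in
theorem gpDeg_eq_iff (hα0 : 0 ≤ α) (hα1 : α < 1) {n : ℕ} {E F : X.Modules}
    (hE : FlatMod.IsFinLocFreeOfRank n E) (hF : FlatMod.IsFinLocFreeOfRank n F)
    (F₁ : Submodule k (ParSh.fibD X I E)) (F₁' : Submodule k (ParSh.fibD X I F)) (f : E ⟶ F) [Mono f]
    (hf : ParSh.IsGPHom k X I F₁ F₁' f) :
    ParSh.gpDeg k X α E F₁ n = ParSh.gpDeg k X α F F₁' n ↔
      (IsIso f ∧ (0 < α → Submodule.map (ParSh.fibDMap k X I f) F₁ = F₁')) := by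
  haveI := finite_fibD I k hE
  haveI := finite_fibD I k hF
  constructor
  · intro he
    have h1 := gpDeg_add_le I k hdim hD hα0 hE hF F₁ F₁' f hf
    obtain ⟨h2, h2'⟩ := deg_le_of_mono k hdim hE hF f
    have h2r : (Curv2.deg k X E n : ℝ) ≤ Curv2.deg k X F n := by exact_mod_cast h2
    have hd : (Curv2.deg k X E n : ℝ) = Curv2.deg k X F n := by
      by_contra hne
      have hlt : (Curv2.deg k X E n : ℝ) < Curv2.deg k X F n := lt_of_le_of_ne h2r hne
      have : 0 < (1 - α) * ((Curv2.deg k X F n : ℝ) - Curv2.deg k X E n) :=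
        mul_pos (by linarith) (by linarith)
      linarith
    haveI := h2' (by exact_mod_cast hd)
    refine ⟨inferInstance, fun hα => Submodule.eq_of_le_of_finrank_eq hf ?_⟩
    simp only [ParSh.gpDeg, ParSh.gpWt, hd, add_right_inj] at he
    rw [← LinearEquiv.finrank_eq
      (Submodule.equivMapOfInjective (ParSh.fibDMap k X I f) (bijective_fibDMap I k f).1 F₁)]
    exact_mod_cast mul_left_cancel₀ hα.ne' he
  · rintro ⟨hiso, hmap⟩
    haveI := hiso
    simp only [ParSh.gpDeg, ParSh.gpWt, deg_eq_of_iso k f n, add_right_inj]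
    rcases hα0.eq_or_lt with rfl | hα
    · simp
    · rw [← hmap hα, ← LinearEquiv.finrank_eq
        (Submodule.equivMapOfInjective (ParSh.fibDMap k X I f) (bijective_fibDMap I k f).1 F₁)]

include hdim hD in
/-- Subadditivity along the kernel and image of a map. -/
theorem gpDeg_le_ker_add_image (hα0 : 0 ≤ α) {a b c : ℕ} {S : ShortComplex X.Modules}
    (hS : S.ShortExact) (h₁ : FlatMod.IsFinLocFreeOfRank a S.X₁)
    (h₂ : FlatMod.IsFinLocFreeOfRank b S.X₂) (h₃ : FlatMod.IsFinLocFreeOfRank c S.X₃)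
    (F₁ : Submodule k (ParSh.fibD X I S.X₂)) :
    ParSh.gpDeg k X α S.X₂ F₁ b ≤ ParSh.gpDeg k X α S.X₁ (ParSh.gpInduced k X I S.f F₁) a +
      ParSh.gpDeg k X α S.X₃ (F₁.map (ParSh.fibDMap k X I S.g)) c := by
  haveI := finite_fibD I k h₁
  haveI := finite_fibD I k h₂
  have h1 := finrank_map_add_inf_ker (ParSh.fibDMap k X I S.g) F₁
  have h2 : F₁ ⊓ LinearMap.ker (ParSh.fibDMap k X I S.g) ≤
      (ParSh.gpInduced k X I S.f F₁).map (ParSh.fibDMap k X I S.f) := by
    rw [ParSh.gpInduced, Submodule.map_comap_eq]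
    exact le_inf (inf_le_right.trans (ker_fibDMap_le_range I k hdim hD hS h₁ h₂ h₃)) inf_le_left
  have h3 := (Submodule.finrank_mono h2).trans
    (Submodule.finrank_map_le (ParSh.fibDMap k X I S.f) (ParSh.gpInduced k X I S.f F₁))
  have h4 : (Module.finrank k F₁ : ℝ) ≤ Module.finrank k (ParSh.gpInduced k X I S.f F₁) +
      Module.finrank k (F₁.map (ParSh.fibDMap k X I S.g)) := by exact_mod_cast (by omega)
  have hd : Curv2.deg k X S.X₂ b = Curv2.deg k X S.X₁ a + Curv2.deg k X S.X₃ c := by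
    rw [VBLib.dg_eq h₁, VBLib.dg_eq h₂, VBLib.dg_eq h₃]
    exact (VBLib.goodCurve_of_smooth (k := k) (X := X) hdim).dg_add hS (VBLib.isCoh_of_ofRank h₁)
      (VBLib.isCoh_of_ofRank h₂) (VBLib.isCoh_of_ofRank h₃)
  have h5 := mul_le_mul_of_nonneg_left h4 hα0
  simp only [ParSh.gpDeg, ParSh.gpWt, hd, Int.cast_add]
  linarith

include hdim hD in
/-- Semistable and stable inequalities for a sub-bundle, allowing rank zero. -/
theorem gpDeg_rk_zero {K : X.Modules} (hK : FlatMod.IsFinLocFreeOfRank 0 K)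
    (H : Submodule k (ParSh.fibD X I K)) : ParSh.gpDeg k X α K H 0 = 0 := by
  have hX := VBLib.goodCurve_of_smooth (k := k) (X := X) hdim
  have hz : IsZero K :=
    VBLib.isZero_of_rk_eq_zero (VBLib.isFinLocFree_of_ofRank hK) (VBLib.rk_eq hK)
  have h1 : Curv2.deg k X K 0 = 0 := by
    rw [VBLib.dg_eq hK]
    exact hX.dg_eq_zero_of_isZero (VBLib.isCoh_of_ofRank hK) hz
  haveI := finite_fibD I k hK
  have h2 : Module.finrank k (ParSh.fibD X I K) = 0 := by
    have h := finrank_fibD I k hdim hD hK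
    rw [Nat.cast_zero, zero_mul] at h
    exact_mod_cast h
  have h3 : Module.finrank k H = 0 := Nat.le_zero.1 ((Submodule.finrank_le H).trans_eq h2)
  rw [ParSh.gpDeg, ParSh.gpWt, h1, h3]
  simp

omit [IsIntegral X] [Smooth (X ↘ Spec (CommRingCat.of k))] in
/-- The image of a parabolic map maps into the saturation. -/
theorem isGPHom_saturation {E F V G : X.Modules} {f : E ⟶ F} {q : E ⟶ V} {j : V ⟶ G} {i : G ⟶ F}
    (e : q ≫ j ≫ i = f) {F₁ : Submodule k (ParSh.fibD X I E)} {F₁' : Submodule k (ParSh.fibD X I F)}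
    (hf : ParSh.IsGPHom k X I F₁ F₁' f) :
    ParSh.IsGPHom k X I (F₁.map (ParSh.fibDMap k X I q)) (ParSh.gpInduced k X I i F₁') j := by
  unfold ParSh.IsGPHom ParSh.gpInduced at *
  intro y hy
  obtain ⟨z, hz, rfl⟩ := Submodule.mem_map.1 hy
  obtain ⟨x, hx, rfl⟩ := Submodule.mem_map.1 hz
  have h := hf (Submodule.mem_map_of_mem (f := ParSh.fibDMap k X I f) hx)
  rw [Submodule.mem_comap, ← fibDMap_comp I k j i, ← fibDMap_comp I k q (j ≫ i), e]
  exact h

/-- The arithmetic of the slope chain. -/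
theorem chain {n m a r D DK DV Δ DG D' : ℝ} (hn : 0 < n) (hm : 0 < m) (hnr : n = a + r)
    (hA : D ≤ DK + DV) (hK : DK * n ≤ D * a) (hB : DV + Δ ≤ DG) (hC : DG * m ≤ D' * r)
    (hμ : D * m = D' * n) (hΔ : 0 ≤ Δ) : Δ = 0 ∧ DK * n = D * a ∧ DG * m = D' * r := by
  subst hnr
  have a1 := mul_le_mul_of_nonneg_right (mul_le_mul_of_nonneg_right hA hn.le) hm.le
  have a2 := mul_le_mul_of_nonneg_right hK hm.le
  have a3 := mul_le_mul_of_nonneg_right (mul_le_mul_of_nonneg_right hB hn.le) hm.le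
  have a4 := mul_le_mul_of_nonneg_right hC hn.le
  have a5 : D * m * r = D' * (a + r) * r := congrArg (· * r) hμ
  have a6 : 0 ≤ Δ * (a + r) * m := by positivity
  have b0 : Δ * (a + r) * m = 0 := by nlinarith
  have b1 : DK * (a + r) * m = D * a * m := by nlinarith
  have b2 : DG * m * (a + r) = D' * r * (a + r) := by nlinarith
  exact ⟨(mul_eq_zero.1 ((mul_eq_zero.1 b0).resolve_right hm.ne')).resolve_right hn.ne',
    mul_right_cancel₀ hm.ne' b1, mul_right_cancel₀ hn.ne' b2⟩

attribute [local irreducible] ParSh.gpDeg Curv2.deg in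
include hdim hD in
/-- A map between semistable objects of the same slope has constant rank; stability of the source
forces injectivity, stability of the target generic surjectivity. -/
theorem hom_analysis (hα0 : 0 ≤ α) (hα1 : α < 1) {n m : ℕ} (hn : 0 < n) (hm : 0 < m) {E F : X.Modules}
    (hE : FlatMod.IsFinLocFreeOfRank n E) (hF : FlatMod.IsFinLocFreeOfRank m F)
    (F₁ : Submodule k (ParSh.fibD X I E)) (F₁' : Submodule k (ParSh.fibD X I F))
    (hEss : ParSh.IsGPSemistable k X I α F₁ n) (hFss : ParSh.IsGPSemistable k X I α F₁' m)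
    (hμ : ParSh.gpDeg k X α E F₁ n * (m : ℝ) = ParSh.gpDeg k X α F F₁' m * (n : ℝ))
    (f : E ⟶ F) (hf : ParSh.IsGPHom k X I F₁ F₁' f) (hne : f ≠ 0) :
    (∃ r₀ : ℕ, FlatMod.IsFinLocFreeOfRank r₀ (cokernel f)) ∧
      (ParSh.IsGPStable k X I α F₁ n → Mono f) ∧
      (ParSh.IsGPStable k X I α F₁' m → VBLib.rk (Abelian.image f) = m) := by
  have hX := VBLib.goodCurve_of_smooth (k := k) (X := X) hdim
  haveI := hX.isLocallyNoetherian
  have hEf := VBLib.isFinLocFree_of_ofRank hE
  have hFf := VBLib.isFinLocFree_of_ofRank hF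
  have hEc := VBLib.isCoh_of_isFinLocFree hEf
  have hFc := VBLib.isCoh_of_isFinLocFree hFf
  have hIf := VBLib.isFinLocFree_image hX.pid f hEc hFf
  have hKf := VBLib.isFinLocFree_kernel hX.pid f hEf hFc
  have hqu : Abelian.factorThruImage f ≫ Abelian.image.ι f = f := Abelian.image.fac f
  obtain ⟨G', j, i', hji, hj, hi', hG', hQ', hrk', -⟩ :=
    hX.exists_saturation (Abelian.image.ι f) (VBLib.isCoh_of_isFinLocFree hIf) hFf
  haveI := hj
  haveI := hi'
  have hrk : n = VBLib.rk (kernel f) + VBLib.rk (Abelian.image f) := by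
    have := (hX.dg_kernel_image f hEc hFc).2
    rwa [VBLib.rk_eq hE] at this
  have hr : 0 < VBLib.rk (Abelian.image f) :=
    Nat.pos_of_ne_zero fun h => hne (VBLib.eq_zero_of_rk_image f hIf h)
  have hrm : VBLib.rk (Abelian.image f) ≤ m :=
    (VBLib.rk_le_of_mono (Abelian.image.ι f) hFc).trans_eq (VBLib.rk_eq hF)
  have hKr := VBLib.ofRank_rk hKf
  have hVr := VBLib.ofRank_rk hIf
  have hGr : FlatMod.IsFinLocFreeOfRank (VBLib.rk (Abelian.image f)) G' := hrk' ▸ VBLib.ofRank_rk hG'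
  let S := ShortComplex.mk (kernel.ι f) (Abelian.factorThruImage f)
    ((cancel_mono (Abelian.image.ι f)).mp (by simp))
  have hS : S.ShortExact := by
    refine { exact := ShortComplex.exact_of_f_is_kernel _ ?_ }
    refine KernelFork.IsLimit.ofι' _ _ fun {A} c hc => ⟨kernel.lift f c ?_, kernel.lift_ι _ _ _⟩
    rw [← hqu, ← Category.assoc]
    exact (congrArg (· ≫ Abelian.image.ι f) hc).trans zero_comp
  have hA := gpDeg_le_ker_add_image I k hdim hD hα0 hS hKr hE hVr F₁
  have hK : ParSh.gpDeg k X α (kernel f) (ParSh.gpInduced k X I (kernel.ι f) F₁)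
      (VBLib.rk (kernel f)) * n ≤ ParSh.gpDeg k X α E F₁ n * (VBLib.rk (kernel f) : ℝ) := by
    rcases Nat.eq_zero_or_pos (VBLib.rk (kernel f)) with ha | ha
    · rw [ha] at hKr ⊢
      rw [gpDeg_rk_zero I k hdim hD hKr, Nat.cast_zero, zero_mul, mul_zero]
    · exact hEss (kernel f) _ (kernel.ι f) inferInstance ha hKr
  have hB := gpDeg_add_le I k hdim hD hα0 hVr hGr _ _ j
    (isGPHom_saturation I k (q := Abelian.factorThruImage f) (i := i') (by rw [hji, hqu]) hf)
  have hC := hFss G' _ i' hi' hr hGr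
  obtain ⟨hd, hd'⟩ := deg_le_of_mono k hdim hVr hGr j
  have hnR : (n : ℝ) = (VBLib.rk (kernel f) : ℝ) + (VBLib.rk (Abelian.image f) : ℝ) := by
    exact_mod_cast hrk
  have hΔ0 : 0 ≤ (1 - α) * ((Curv2.deg k X G' (VBLib.rk (Abelian.image f)) : ℝ) -
      Curv2.deg k X (Abelian.image f) (VBLib.rk (Abelian.image f))) :=
    mul_nonneg (by linarith) (sub_nonneg.2 (by exact_mod_cast hd))
  obtain ⟨hΔ, eK, eG⟩ := chain (Nat.cast_pos.2 hn) (Nat.cast_pos.2 hm) hnR hA hK hB hC hμ hΔ0
  haveI : IsIso j := by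
    refine hd' ?_
    rcases mul_eq_zero.1 hΔ with h | h
    · linarith
    · exact_mod_cast (sub_eq_zero.1 h).symm
  refine ⟨?_, fun hst => ?_, fun hst => ?_⟩
  · have e₁ : cokernel f ≅ cokernel (Abelian.image.ι f) :=
      cokernelIsoOfEq hqu.symm ≪≫ cokernelEpiComp _ _
    have e₂ : cokernel (Abelian.image.ι f) ≅ cokernel i' :=
      cokernelIsoOfEq hji.symm ≪≫ cokernelEpiComp j i'
    exact ⟨_, fun x => by
      obtain ⟨U, hx, ⟨φ⟩⟩ := VBLib.ofRank_rk hQ' x
      exact ⟨U, hx, ⟨(Scheme.Modules.restrictFunctor U.ι).mapIso (e₁ ≪≫ e₂) ≪≫ φ⟩⟩⟩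
  · refine VBLib.mono_of_rk_kernel f hKf ?_
    by_contra ha
    exact (hst (kernel f) _ (kernel.ι f) inferInstance (Nat.pos_of_ne_zero ha) (by omega) hKr).ne eK
  · by_contra hlt
    exact (hst G' _ i' hi' hr (lt_of_le_of_ne hrm hlt) hGr).ne eG

end Groth.Agent.GPLib
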